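import Groth.Agent.HypSurfLib.Ideal
import Groth.Agent.IntLib.Push
import Groth.Agent.ShBCLib.Finrank
import Groth.Agent.ProjTwist.Top
import Groth.Agent.S4466
import Groth.Agent.CurveP1Lib.H0One
import Groth.Agent.CurveP1Lib.GeomP1

/-!
# Cohomology of hypersurfaces
-/

set_option autoImplicit false
set_option backward.isDefEq.respectTransparency false
set_option linter.style.haveILetI false
set_option maxHeartbeats 800000

universe u

open CategoryTheory CategoryTheory.Limits AlgebraicGeometry TopologicalSpace

noncomputable section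

namespace Groth.Agent.HypSurfLib

variable {r : ℕ} {k : Type u} [Field k] {d : ℕ} (G : LefPen.Form r k d) (hG : G ≠ 0)
  [(LefPen.hypIdeal G).subscheme.Over (Spec (CommRingCat.of k))]
  (hinst : (LefPen.hypIdeal G).subscheme ↘ Spec (CommRingCat.of k) =
    (LefPen.hypIdeal G).subschemeι ≫ CohB1.ProjSpace.toSpec r k)

local notation "P" => CohB1.ProjSpace r k
local notation "H" => LefPen.hypIdeal G

/-- Dimensions of the cohomology of a twist. -/
def hT (r : ℕ) (k : Type u) [Field k] (e : ℤ) (q : ℕ) : ℕ :=
  Module.finrank k (Coh.HH (CohB1.ProjSpace r k) (Twist.twistProjSpace r k e) q)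

omit G hG hinst in
theorem finrank_structure (q : ℕ) : Module.finrank k (Coh.HH P (Coh.structureModule P) q) = hT r k 0 q :=
  ShBCLib.finrank_HH_iso
    (@asIso _ _ _ _ (ProjCoh.unitToTwist (CohB1.polyGrading r k)) ProjCoh.isIso_unitToTwist :
      Coh.structureModule P ≅ Twist.twistProjSpace r k 0) q

omit G hG hinst in
theorem subsingleton_structure (q : ℕ) (hq : 1 ≤ q) : Subsingleton (Coh.HH P (Coh.structureModule P) q) := by
  haveI : IsProper (P ↘ Spec (CommRingCat.of k)) := inferInstanceAs (IsProper (CohB1.ProjSpace.toSpec r k))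
  haveI := EulerIneqLib.isNoetherian_proper (X := P) k
  haveI := EulerIneqLib.finite_HH (k := k) (DevLib.isCoh_structureModule P) q
  refine Module.finrank_zero_iff.1 ((finrank_structure q).trans ?_)
  haveI : Subsingleton (Coh.HH P (Twist.twistProjSpace r k 0) q) :=
    ProjTwist.subsingleton_HH r k 0 q (by omega) (by omega)
  exact Module.finrank_zero_of_subsingleton

omit G hG hinst in
theorem finrank_H0_projSpace : Module.finrank k (Coh.HH P (Coh.structureModule P) 0) = 1 := by
  rw [finrank_structure, hT]
  obtain ⟨e⟩ := ProjTwist.nonempty_H0 r k 0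
  rw [show ((0 : ℤ)) = ((0 : ℕ) : ℤ) from rfl, e.finrank_eq, S4466.finrank_forms k r 0]
  simp

include hG hinst in
theorem exists_quot (q : ℕ) :
    Module.finrank k (Coh.HH P (ClSub.quotMod H) q) =
      Module.finrank k (Coh.HH (H).subscheme (Coh.structureModule (H).subscheme) q) :=
  IntLib.finrank_push k (H).subschemeι hinst.symm _ q

include hG hinst in
/-- Intermediate cohomology of the structure sheaf of a hypersurface. -/
theorem subsingleton_HH (q : ℕ) (hq : 1 ≤ q) (hqr : q + 1 ≠ r) :
    Subsingleton (Coh.HH (H).subscheme (Coh.structureModule (H).subscheme) q) := by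
  haveI : IsProper (P ↘ Spec (CommRingCat.of k)) := inferInstanceAs (IsProper (CohB1.ProjSpace.toSpec r k))
  haveI := EulerIneqLib.isNoetherian_proper (X := P) k
  haveI : IsProper ((H).subscheme ↘ Spec (CommRingCat.of k)) := by
    rw [hinst]; infer_instance
  haveI := EulerIneqLib.isNoetherian_proper (X := (H).subscheme) k
  haveI := EulerIneqLib.finite_HH (k := k) (DevLib.isCoh_structureModule (H).subscheme) q
  refine Module.finrank_zero_iff.1 ((exists_quot G hG hinst q).symm.trans ?_)
  obtain ⟨w, hS⟩ := exists_seq G hG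
  haveI := subsingleton_structure (r := r) (k := k) q hq
  haveI : Subsingleton (Coh.HH P (Twist.twistProjSpace r k (-(d : ℤ))) (q + 1)) :=
    ProjTwist.subsingleton_HH r k _ _ (by omega) (by omega)
  have h0 : CurveLib.hδ (k := k) hS q = 0 := LinearMap.ext fun x => Subsingleton.elim _ _
  have h1 := CurveLib.range_hMap_g (k := k) hS q
  rw [h0, LinearMap.ker_zero, LinearMap.range_eq_top] at h1
  haveI : Subsingleton (Coh.HH P (ClSub.quotMod H) q) := h1.subsingleton
  exact Module.finrank_zero_of_subsingleton

include hG hinst in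
/-- A hypersurface of positive dimension has only constant functions. -/
theorem finrank_H0 (hd : 1 ≤ d) (hr : 2 ≤ r) :
    Module.finrank k (Coh.HH (H).subscheme (Coh.structureModule (H).subscheme) 0) = 1 := by
  haveI : IsProper (P ↘ Spec (CommRingCat.of k)) := inferInstanceAs (IsProper (CohB1.ProjSpace.toSpec r k))
  haveI := EulerIneqLib.isNoetherian_proper (X := P) k
  rw [← exists_quot G hG hinst, ← finrank_H0_projSpace (r := r) (k := k)]
  obtain ⟨w, hS⟩ := exists_seq G hG
  haveI : Subsingleton (Coh.HH P (Twist.twistProjSpace r k (-(d : ℤ))) 1) :=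
    ProjTwist.subsingleton_HH r k _ _ (by omega) (by omega)
  haveI : Subsingleton (Coh.HH P (Twist.twistProjSpace r k (-(d : ℤ))) 0) :=
    ProjTwist.subsingleton_HH r k _ _ (by omega) (by omega)
  have h0 : CurveLib.hδ (k := k) hS 0 = 0 := LinearMap.ext fun x => Subsingleton.elim _ _
  have h1 := CurveLib.range_hMap_g (k := k) hS 0
  rw [h0, LinearMap.ker_zero, LinearMap.range_eq_top] at h1
  have h2 : LinearMap.ker (CurveLib.hMap (k := k) (ClSub.toSubscheme H) 0) = ⊥ := by
    refine (CurveLib.range_hMap_f (k := k) hS 0).symm.trans (LinearMap.range_eq_bot.2 ?_)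
    exact LinearMap.ext fun x => by rw [Subsingleton.elim x 0, map_zero, LinearMap.zero_apply]
  exact (LinearEquiv.ofBijective _ ⟨LinearMap.ker_eq_bot.1 h2, h1⟩).finrank_eq.symm

include hG hinst in
/-- The top cohomology of the structure sheaf of a hypersurface. -/
theorem finrank_top (hd : 1 ≤ d) (hr : 2 ≤ r) :
    Module.finrank k (Coh.HH (H).subscheme (Coh.structureModule (H).subscheme) (r - 1)) = (d - 1).choose r := by
  haveI : IsProper (P ↘ Spec (CommRingCat.of k)) := inferInstanceAs (IsProper (CohB1.ProjSpace.toSpec r k))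
  rw [← exists_quot G hG hinst]
  obtain ⟨w, hS⟩ := exists_seq G hG
  have hq : r - 1 + 1 = r := by omega
  generalize r - 1 = q at hq ⊢
  haveI := subsingleton_structure (r := r) (k := k) q (by omega)
  haveI := subsingleton_structure (r := r) (k := k) (q + 1) (by omega)
  have hg : CurveLib.hMap (k := k) (ClSub.toSubscheme H) q = 0 :=
    LinearMap.ext fun x => by rw [Subsingleton.elim x 0, map_zero, LinearMap.zero_apply]
  have hf : CurveLib.hMap (k := k) (mulG G) (q + 1) = 0 := LinearMap.ext fun x => Subsingleton.elim _ _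
  have h1 := CurveLib.range_hMap_g (k := k) hS q
  have h2 := CurveLib.range_hδ (k := k) hS q
  rw [hg, LinearMap.range_zero] at h1
  rw [hf, LinearMap.ker_zero, LinearMap.range_eq_top] at h2
  rw [(LinearEquiv.ofBijective _ ⟨LinearMap.ker_eq_bot.1 h1.symm, h2⟩).finrank_eq]
  show hT r k (-(d : ℤ)) (q + 1) = _
  rw [hq]
  rcases Nat.lt_or_ge d (r + 1) with h | h
  · haveI : Subsingleton (Coh.HH P (Twist.twistProjSpace r k (-(d : ℤ))) r) :=
      ProjTwist.subsingleton_HH r k _ _ (by omega) (by omega)
    rw [hT, Module.finrank_zero_of_subsingleton, Nat.choose_eq_zero_of_lt (by omega)]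
  · obtain ⟨m, rfl⟩ := Nat.exists_eq_add_of_le h
    obtain ⟨e⟩ := ProjTwist.nonempty_top (n := r) (R := k) m
    rw [hT, show (-((r + 1 + m : ℕ) : ℤ)) = -((r : ℤ) + 1 + m) by push_cast; ring, e.finrank_eq,
      S4466.finrank_forms k r m]
    congr 1
    omega

include hG hinst in
theorem bijective_toGlobal (hd : 1 ≤ d) (hr : 2 ≤ r) :
    Function.Bijective (Coh.toGlobal ((H).subscheme ↘ Spec (CommRingCat.of k))) :=
  CurveP1Lib.bijective_toGlobal_of_h0 (finrank_H0 G hG hinst hd hr)

include hG hinst in
theorem connectedSpace (hd : 1 ≤ d) (hr : 2 ≤ r) : ConnectedSpace (H).subscheme :=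
  CurveP1Lib.connectedSpace_of_bijective _ (bijective_toGlobal G hG hinst hd hr)

end Groth.Agent.HypSurfLib
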