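import Groth.Agent.HypSurfLib.Hom
import Groth.Agent.OmegaAffLib.Ideal
import Groth.Agent.RefOne.Divisor
import Groth.Agent.CohBase.Localization
import Groth.Agent.DevLib.Sub
import Groth.Agent.RelTildeLib.Morph
import Groth.Agent.SerreAff.Free
import Groth.Agent.AmpleEmb.TwistOne

/-!
# The ideal sheaf of a hypersurface
-/

set_option autoImplicit false
set_option backward.isDefEq.respectTransparency false
set_option backward.isDefEq.respectTransparency.types false
set_option linter.style.haveILetI false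
set_option maxHeartbeats 800000

universe u

open CategoryTheory CategoryTheory.Limits AlgebraicGeometry TopologicalSpace Opposite
open Groth.Agent.ParaFLib Groth.Agent.CohBase

noncomputable section

namespace Groth.Agent.HypSurfLib

section General

variable {X : Scheme.{u}} {L : X.Modules} (s : L ⟶ Coh.structureModule X)
  (hs : ∀ V : X.Opens, Function.Injective (s.app V))

/-- The image on an open. -/
def imageOn (V : X.Opens) : Ideal Γ(X, V) where
  carrier := {c | ∃ t, s.app V t = c}
  add_mem' := by rintro _ _ ⟨a, rfl⟩ ⟨b, rfl⟩; exact ⟨a + b, map_add _ _ _⟩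
  zero_mem' := ⟨0, map_zero _⟩
  smul_mem' c := by rintro _ ⟨a, rfl⟩; exact ⟨c • a, Scheme.Modules.Hom.app_smul s c a⟩

theorem app_res {V W : X.Opens} (h : W ≤ V) (t : Γ(L, V)) :
    s.app W (L.presheaf.map (homOfLE h).op t) = X.presheaf.map (homOfLE h).op (s.app V t) :=
  ConcreteCategory.congr_hom (s.mapPresheaf.naturality (homOfLE h).op) t

include hs in
/-- Membership in the image is local. -/
theorem mem_imageOn_of_local {V : X.Opens} {c : Γ(X, V)} {ι : Type u} (W : ι → X.Opens) (hW : ∀ i, W i ≤ V)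
    (hcov : V ≤ iSup W) (h : ∀ i, X.presheaf.map (homOfLE (hW i)).op c ∈ imageOn s (W i)) : c ∈ imageOn s V := by
  choose t ht using h
  obtain ⟨τ, hτ, -⟩ := TopCat.Sheaf.existsUnique_gluing' ⟨L.presheaf, L.isSheaf⟩ W V (fun i => homOfLE (hW i)) hcov t
    fun i j => hs _ (by
      erw [app_res s (inf_le_left : W i ⊓ W j ≤ W i), app_res s (inf_le_right : W i ⊓ W j ≤ W j), ht i, ht j]
      exact (ConcreteCategory.congr_hom (X.presheaf.map_comp (homOfLE (hW i)).op (homOfLE inf_le_left).op) c).symm.trans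
        (ConcreteCategory.congr_hom (X.presheaf.map_comp (homOfLE (hW j)).op (homOfLE inf_le_right).op) c))
  refine ⟨τ, TopCat.Sheaf.eq_of_locally_eq' X.sheaf W V (fun i => homOfLE (hW i)) hcov _ _ fun i => ?_⟩
  refine Eq.trans ?_ (ht i)
  rw [← hτ i]
  exact (app_res s (hW i) τ).symm

theorem map_imageOn [Coh.IsQCoh L] (U : X.affineOpens) (g : Γ(X, U.1)) :
    (imageOn s U.1).map (X.presheaf.map (homOfLE (X.basicOpen_le g)).op).hom = imageOn s (X.basicOpen g) := by
  refine le_antisymm ?_ ?_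
  · rw [Ideal.map_le_iff_le_comap]
    rintro _ ⟨t, rfl⟩
    exact ⟨_, app_res s (X.basicOpen_le g) t⟩
  · rintro _ ⟨t, rfl⟩
    obtain ⟨n, m, hm⟩ := exists_pow_extend L U.2 g rfl t
    obtain ⟨v, hv⟩ : IsUnit (X.presheaf.map (homOfLE (X.basicOpen_le g)).op (g ^ n)) := by
      rw [map_pow]
      exact (RingedSpace.isUnit_res_basicOpen _ g).pow n
    have h1 := app_res s (X.basicOpen_le g) m
    rw [hm, sc_apply, Scheme.Modules.Hom.app_smul] at h1
    change X.presheaf.map (homOfLE (X.basicOpen_le g)).op (g ^ n) * (show Γ(X, X.basicOpen g) from s.app _ t) = _ at h1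
    have key : (show Γ(X, X.basicOpen g) from s.app _ t) =
        v⁻¹.1 * X.presheaf.map (homOfLE (X.basicOpen_le g)).op (show Γ(X, U.1) from s.app U.1 m) := by
      refine Eq.trans ?_ (congrArg (v⁻¹.1 * ·) h1)
      rw [← hv, ← mul_assoc, Units.inv_mul, one_mul]
    refine (congrArg (· ∈ _) key).mpr ?_
    exact Ideal.mul_mem_left _ _ (Ideal.mem_map_of_mem _ ⟨m, rfl⟩)

/-- The image as a sheaf of ideals. -/
def imageIdeal [Coh.IsQCoh L] : X.IdealSheafData :=
  { ideal := fun U => imageOn s U.1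
    map_ideal_basicOpen := fun U g => map_imageOn s U g }

theorem imageOn_eq_span {W : X.Opens} {e : Γ(L, W)} (he : Gen W e) : imageOn s W = Ideal.span {(show Γ(X, W) from s.app W e)} := by
  have hb := he W le_rfl
  simp only [ParaFLib.res_self] at hb
  ext c
  rw [Ideal.mem_span_singleton']
  constructor
  · rintro ⟨t, rfl⟩
    obtain ⟨a, rfl⟩ := hb.2 t
    exact ⟨a, (Scheme.Modules.Hom.app_smul s a e).symm⟩
  · rintro ⟨a, rfl⟩
    exact ⟨a • e, Scheme.Modules.Hom.app_smul s a e⟩

include hs in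
/-- A monomorphism into `O` whose images are the ideals of `I` gives the ideal sequence of `I`. -/
theorem exists_shortExact [Coh.IsQCoh L] (I : X.IdealSheafData)
    (hI : ∀ U : X.affineOpens, I.ideal U = imageOn s U.1) :
    ∃ (w : s ≫ ClSub.toSubscheme I = 0), (ShortComplex.mk s (ClSub.toSubscheme I) w).ShortExact := by
  classical
  haveI : Mono s := RelTildeLib.mono_of_app_injective s hs
  haveI : Mono (ClSub.idealModι I) := by unfold ClSub.idealModι; infer_instance
  have hst : ∀ (V : X.Opens) (t : Γ(L, V)), ∃ m, (ClSub.idealModι I).app V m = s.app V t := by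
    intro V t
    have hcov : V ≤ iSup fun U : {U : X.affineOpens // U.1 ≤ V} => U.1.1 := fun x hx => by
      obtain ⟨_, ⟨U, hU, rfl⟩, hxU, hUV⟩ := X.isBasis_affineOpens.exists_subset_of_mem_open hx V.2
      exact Opens.mem_iSup.2 ⟨⟨⟨U, hU⟩, hUV⟩, hxU⟩
    refine mem_imageOn_of_local (ClSub.idealModι I) (fun W => OmegaSh.idealModι_app_injective W I) _
      (fun U : {U : X.affineOpens // U.1 ≤ V} => U.2) hcov fun U => ?_
    have h1 : X.presheaf.map (homOfLE U.2).op (show Γ(X, V) from s.app V t) ∈ I.ideal U.1 := by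
      rw [hI]
      exact ⟨_, app_res s U.2 t⟩
    obtain ⟨m, hm⟩ := (OmegaAffLib.mem_range_idealSect I U.1 _).1 h1
    exact ⟨m, hm⟩
  have w : s ≫ ClSub.toSubscheme I = 0 := by
    refine Scheme.Modules.hom_ext _ _ fun V => AddCommGrpCat.ext fun t => ?_
    obtain ⟨m, hm⟩ := hst V t
    show (ClSub.toSubscheme I).app V (s.app V t) = 0
    rw [← hm]
    exact congr(($(kernel.condition (ClSub.toSubscheme I))).app V m)
  let l : L ⟶ ClSub.idealMod I := kernel.lift _ s w
  have hl : l ≫ ClSub.idealModι I = s := kernel.lift_ι _ _ _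
  haveI : IsIso l := by
    refine (PullbackMod.isIso_iff_stalk l).2 fun x => ⟨?_, ?_⟩
    · haveI : Mono l := mono_of_mono_fac hl
      exact (PullbackMod.mono_iff_stalk l).1 inferInstance x
    · intro z
      obtain ⟨hinj, -⟩ := RefOne.idealModι_stalk I x
      obtain ⟨V, hxV, m, rfl⟩ := TopCat.Presheaf.exists_germ_eq (F := (ClSub.idealMod I).presheaf) z
      obtain ⟨_, ⟨U, hU, rfl⟩, hxU, hUV⟩ := X.isBasis_affineOpens.exists_subset_of_mem_open hxV V.2
      have h1 := (OmegaAffLib.mem_range_idealSect I ⟨U, hU⟩ _).2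
        ⟨(ClSub.idealMod I).presheaf.map (homOfLE hUV).op m, rfl⟩
      rw [hI] at h1
      obtain ⟨t, ht⟩ := h1
      refine ⟨L.presheaf.germ U x hxU t, ?_⟩
      rw [PullbackMod.stalkLin_germ, ← TopCat.Presheaf.germ_res_apply (ClSub.idealMod I).presheaf (homOfLE hUV) x hxU m]
      refine congrArg _ (OmegaSh.idealModι_app_injective U I ?_)
      show (l ≫ ClSub.idealModι I).app U t = _
      rw [hl]
      exact ht
  haveI := Groth.Agent.SerreAff.epi_unitToPush I.subschemeι
  refine ⟨w, ShortComplex.ShortExact.mk' (ShortComplex.exact_of_f_is_kernel _ ?_) ‹Mono s›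
    (inferInstanceAs (Epi (ClSub.toSubscheme I)))⟩
  exact IsLimit.ofIsoLimit (kernelIsKernel (ClSub.toSubscheme I)) (Fork.ext (asIso l).symm ((asIso l).inv_comp_eq.2 hl.symm))

end General

variable {r : ℕ} {k : Type u} [Field k] {d : ℕ}

theorem isInvertible_twist (e : ℤ) : PicF.IsInvertible (Twist.twistProjSpace r k e) := by
  refine ProjTwistLib.isInvertible_of_hasUnit fun x => ?_
  obtain ⟨i, hi⟩ := Opens.mem_iSup.1 ((AmpleEmb.iSup_stdOpen r k).ge (Opens.mem_top x))
  have h := (ProjTwistLib.hasUnit_of_mem (xPowF i 1) (chart_le i 1 hi) (x := x) (𝒜 := CohB1.polyGrading r k)).zmul e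
  simpa using h

theorem hypIdeal_ideal (G : LefPen.Form r k d) (hG : G ≠ 0) (U : (CohB1.ProjSpace r k).affineOpens) :
    (LefPen.hypIdeal G).ideal U = imageOn (mulG G) U.1 := by
  haveI := InvExt.isQCoh_of_isInvertible (isInvertible_twist (r := r) (k := k) (-(d : ℤ)))
  have hfam : LefPen.hypFamily G = (imageIdeal (mulG G)).ideal := by
    funext U
    refine le_antisymm ?_ ?_
    · intro c hc
      have hcov : U.1 ≤ iSup fun i : ULift.{u} (Fin (r + 1)) => U.1 ⊓ LefPen.chart r k i.down := fun x hx => by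
        obtain ⟨i, hi⟩ := Opens.mem_iSup.1 ((AmpleEmb.iSup_stdOpen r k).ge (Opens.mem_top x))
        exact Opens.mem_iSup.2 ⟨⟨i⟩, hx, hi⟩
      refine mem_imageOn_of_local (mulG G) (mulG_injective G hG) _ (fun i => inf_le_left) hcov fun i => ?_
      rw [imageOn_eq_span _ ((gen_chartGen i.down d).res inf_le_right), app_res _ inf_le_right, mulG_chartGen]
      exact (Submodule.mem_iInf _).1 hc i.down
    · intro c hc
      refine (Submodule.mem_iInf _).2 fun i => ?_
      show _ ∈ Ideal.span _
      obtain ⟨t, ht⟩ := hc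
      rw [← mulG_chartGen, ← app_res _ inf_le_right, ← imageOn_eq_span _ ((gen_chartGen i d).res inf_le_right)]
      exact ⟨_, (app_res (mulG G) inf_le_left t).trans (congrArg _ ht)⟩
  show (Scheme.IdealSheafData.ofIdeals (LefPen.hypFamily G)).ideal U = _
  rw [hfam, Scheme.IdealSheafData.ofIdeals_ideal]
  rfl

/-- The ideal sequence of a hypersurface. -/
theorem exists_seq (G : LefPen.Form r k d) (hG : G ≠ 0) :
    ∃ (w : mulG G ≫ ClSub.toSubscheme (LefPen.hypIdeal G) = 0),
      (ShortComplex.mk (mulG G) (ClSub.toSubscheme (LefPen.hypIdeal G)) w).ShortExact := by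
  haveI := InvExt.isQCoh_of_isInvertible (isInvertible_twist (r := r) (k := k) (-(d : ℤ)))
  exact exists_shortExact (mulG G) (mulG_injective G hG) _ (hypIdeal_ideal G hG)

end Groth.Agent.HypSurfLib
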