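import Groth.Prelude.Def_LefPen
import Groth.Agent.ProjTwistLib.Mul
import Groth.Agent.CurveLib.Inv
import Groth.Agent.AmpleEmb.ComposeRel

/-!
# Multiplication by a form
-/

set_option autoImplicit false
set_option backward.isDefEq.respectTransparency false
set_option backward.isDefEq.respectTransparency.types false
set_option linter.style.haveILetI false
set_option maxHeartbeats 800000

universe u

open CategoryTheory CategoryTheory.Limits AlgebraicGeometry TopologicalSpace Opposite
open Groth.Agent.ParaFLib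

noncomputable section

namespace Groth.Agent.HypSurfLib

open ProjTwistLib ProjTwist

variable {r : ℕ} {k : Type u} [Field k] {d : ℕ}

local notation "𝒜" => CohB1.polyGrading r k
local notation "P" => CohB1.ProjSpace r k

/-- The unit form of degree zero. -/
def oneF (r : ℕ) (k : Type u) [Field k] : CohB1.polyGrading r k 0 := ⟨1, SetLike.GradedOne.one_mem⟩

theorem le_basicOpen_one (V : (P).Opens) : V ≤ Proj.basicOpen 𝒜 (oneF r k).1 := by
  simp [oneF, Proj.basicOpen_one]

/-- Multiplication by a form, to `O(0)`. -/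
def mulTo (G : LefPen.Form r k d) : Twist.twist 𝒜 (-(d : ℤ)) ⟶ Twist.twist 𝒜 0 :=
  SheafOfModules.Hom.mk <| PresheafOfModules.homMk
    { app := fun U => AddCommGrpCat.ofHom (mulFrac 𝒜 G (oneF r k) (-(d : ℤ)) 0 (by simp) (le_basicOpen_one U.unop))
      naturality := fun _ _ _ => rfl }
    (fun U c f => sect_ext fun x => by
      show valAt (mulFrac 𝒜 G (oneF r k) (-(d : ℤ)) 0 (by simp) (le_basicOpen_one U.unop) (c • f)) x =
        valAt ((show Γ(P, U.unop) from c) • mulFrac 𝒜 G (oneF r k) (-(d : ℤ)) 0 (by simp) (le_basicOpen_one U.unop) f) x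
      rw [valAt_smul, valAt_mulFrac, valAt_mulFrac]
      erw [valAt_smul]
      exact mul_left_comm _ _ _)

instance : IsIso (ProjCoh.unitToTwist 𝒜) := ProjCoh.isIso_unitToTwist

/-- Multiplication by a form, `O(-d) ⟶ O`. -/
def mulG (G : LefPen.Form r k d) : Twist.twistProjSpace r k (-(d : ℤ)) ⟶ Coh.structureModule P :=
  mulTo G ≫ (asIso (ProjCoh.unitToTwist 𝒜)).inv

theorem mulG_app (G : LefPen.Form r k d) (V : (P).Opens) (f : Γ(Twist.twistProjSpace r k (-(d : ℤ)), V)) :
    (ProjCoh.unitToTwist 𝒜).app V ((mulG G).app V f) =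
      mulFrac 𝒜 G (oneF r k) (-(d : ℤ)) 0 (by simp) (le_basicOpen_one V) f := by
  show ((mulG G ≫ ProjCoh.unitToTwist 𝒜).app V) f = _
  rw [mulG, Category.assoc, asIso_inv, IsIso.inv_hom_id, Category.comp_id]
  rfl

theorem valAt_mulG (G : LefPen.Form r k d) (V : (P).Opens) (f : Γ(Twist.twistProjSpace r k (-(d : ℤ)), V)) (x : V) :
    valAt ((ProjCoh.unitToTwist 𝒜).app V ((mulG G).app V f)) x =
      Localization.mk G.1 ⟨1, le_basicOpen_one V x.2⟩ * valAt f x := by
  rw [mulG_app]
  rfl

theorem mulG_injective (G : LefPen.Form r k d) (hG : G ≠ 0) (V : (P).Opens) :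
    Function.Injective ((mulG G).app V) := by
  intro f g h
  refine sect_ext fun x => ?_
  haveI : IsDomain (Twist.Loc 𝒜 x.1) :=
    IsLocalization.isDomain_localization (fun y hy => mem_nonZeroDivisors_of_ne_zero fun h0 => hy (h0 ▸ x.1.asHomogeneousIdeal.toIdeal.zero_mem))
  have h1 := congrArg (fun t => valAt ((ProjCoh.unitToTwist 𝒜).app V t) x) h
  rw [valAt_mulG, valAt_mulG] at h1
  refine mul_left_cancel₀ (fun h0 => hG ?_) h1
  rw [Localization.mk_eq_mk', IsLocalization.mk'_eq_zero_iff] at h0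
  obtain ⟨m, hm⟩ := h0
  refine Subtype.ext ((mul_eq_zero.1 hm).resolve_left fun hm0 => m.2 ?_)
  show (m : MvPolynomial (Fin (r + 1)) k) ∈ x.1.asHomogeneousIdeal.toIdeal
  rw [hm0]
  exact zero_mem _

/-- The power of a coordinate. -/
def xPowF (i : Fin (r + 1)) (d : ℕ) : CohB1.polyGrading r k d :=
  ⟨MvPolynomial.X i ^ d, by simpa using SetLike.pow_mem_graded d (LefPen.X_mem r k i)⟩

theorem chart_le (i : Fin (r + 1)) (d : ℕ) : LefPen.chart r k i ≤ Proj.basicOpen 𝒜 (xPowF (k := k) i d).1 :=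
  fun x hx hm => hx (x.isPrime.mem_of_pow_mem d hm)

/-- The generator `T_i^{-d}` on a chart. -/
def chartGen (i : Fin (r + 1)) (d : ℕ) : Γ(Twist.twistProjSpace r k (-(d : ℤ)), LefPen.chart r k i) :=
  frac 𝒜 (oneF r k) (xPowF i d) (-(d : ℤ)) (by simp) (chart_le i d)

theorem gen_chartGen (i : Fin (r + 1)) (d : ℕ) : Gen (LefPen.chart r k i) (chartGen (k := k) i d) :=
  gen_frac _ _ _ _ (chart_le i d) (le_basicOpen_one _)

theorem mulG_chartGen (G : LefPen.Form r k d) (i : Fin (r + 1)) :
    (mulG G).app _ (chartGen i d) = LefPen.dehom G i := by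
  refine (ProjCoh.unitToTwist_bijective _).1 (sect_ext fun x => ?_)
  rw [valAt_mulG, valAt_unit]
  show Localization.mk G.1 _ * Localization.mk (oneF r k).1 _ = _
  rw [Localization.mk_mul]
  show _ = (((Proj.awayToSection (CohB1.polyGrading r k) (MvPolynomial.X i)).hom _ :
    Γ(P, LefPen.chart r k i)).1 x).val
  erw [ProjectiveSpectrum.Proj.awayToSection_apply]
  rw [HomogeneousLocalization.Away.val_mk, Localization.mk_eq_mk', Localization.mk_eq_mk', IsLocalization.map_mk']
  congr 1
  · simp [oneF]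
  · exact Subtype.ext (by simp [xPowF])

end Groth.Agent.HypSurfLib
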